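import Cfsg.Agent.SP.NTh.D4.Conj
import Cfsg.Agent.H902.Iso
import Cfsg.Agent.OrdDiv.Table
import Cfsg.Agent.S2129
import Cfsg.Agent.Th.OrbitSum

/-! # S5755, row `Th`: the socle `³D₄(2)` (helper26) -/

set_option autoImplicit false
set_option linter.style.haveILetI false
set_option maxRecDepth 100000

namespace Cfsg.Agent.SP.NTh.D4

open Subgroup Cfsg.Agent.SP Cfsg.Agent.OrdDiv
open Cfsg.Agent.Th.Word Cfsg.Agent.Th.KOracle Cfsg.Agent.Th.IndexUpper Cfsg.Agent.Th.IndexBound Cfsg.Agent.Th.PermTab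

theorem cand_td4 : ∀ g ∈ cands [(2, 12), (3, 4), (7, 2), (13, 1)] 211341312, ordN g = 211341312 → g = .td4 2 := by
  decide +kernel

theorem real_td4 (hC : CFSG.{0}) {S : Type} [Group S] [Finite S] [IsSimpleGroup S]
    (hna : ¬ ∀ a b : S, a * b = b * a) (hS : Nat.card S = 211341312) : Real (.td4 2) S := by
  obtain ⟨g, hg, hR, ho⟩ := exists_good table (hC S) hna (l := [(2, 12), (3, 4), (7, 2), (13, 1)])
    (N := 211341312) (by decide +kernel) (by rw [hS])
  rw [cand_td4 g hg (ho.symm.trans hS)] at hR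
  exact hR

/-- the automorphism group and the outer automorphism group -/
theorem card_mulaut_dvd {S : Type*} [Group S] [Finite S] {o : ℕ} (h : Nat.card (Out S) = o) :
    Nat.card (MulAut S) ∣ Nat.card S * o := by
  rw [Subgroup.card_eq_card_quotient_mul_card_subgroup (Inn S), mul_comm, ← h]
  exact Nat.mul_dvd_mul (Subgroup.card_range_dvd _) dvd_rfl

theorem card_aut {S : Type} [Group S] [Finite S] (hR : Real (.td4 2) S) : Nat.card (MulAut S) ∣ Nat.card S * 3 := by
  haveI : Fact (Nat.Prime 2) := ⟨by norm_num⟩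
  obtain ⟨F, _, _, hF, ⟨e⟩⟩ := hR
  have hch : CharP F 2 := by
    obtain ⟨p, hp⟩ := CharP.exists F
    obtain ⟨n, hp', hn⟩ := FiniteField.card F p
    rw [hF] at hn
    have h3 : p ∣ 2 := by
      apply hp'.dvd_of_dvd_pow (n := 3)
      rw [hn]
      exact dvd_pow_self p n.ne_zero
    rw [(Nat.prime_dvd_prime_iff_eq hp' Nat.prime_two).1 h3] at hp
    exact hp
  have h0 := S2129.result (K := F) 2 1 (by rw [hF]) le_rfl
  rw [pow_one] at h0
  haveI : Finite (Cfsg.Lie.twistedD4 F 2) := Finite.of_equiv _ e.toEquiv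
  have h1 := card_mulaut_dvd h0
  rwa [← Nat.card_congr (MulAut.congr e).toEquiv, ← Nat.card_congr e.toEquiv] at h1

theorem na_KL : ¬ ∀ a b : KL, a * b = b * a := fun h => Cfsg.Agent.H755.CC.ThB.na_L ⟨⟨h⟩⟩

theorem real_KL (hC : CFSG.{0}) : Real (.td4 2) KL := by
  haveI := finTh
  haveI := Cfsg.Agent.H755.CC.ThB.simple_L
  exact real_td4 hC na_KL Cfsg.Agent.H755.CC.ThB.card_L

theorem t_norm : gTh 8 ∈ normalizer (KL : Set Th) := by
  haveI := finTh
  refine mem_normalizer_fintype fun n hn => ?_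
  have h : KL ≤ KL.comap (MulAut.conj (ev gTh [8])).toMonoidHom := by
    refine KL_le fun x h1 h2 => ?_
    change ev gTh [8] * ev gTh [x] * (ev gTh [8])⁻¹ ∈ KL
    interval_cases x
    · rw [conj_eq (v := [1]) (by decide +kernel)]; exact ev_mem (by decide +kernel)
    · rw [conj_eq (v := [2]) (by decide +kernel)]; exact ev_mem (by decide +kernel)
    · rw [conj_eq (v := [3]) (by decide +kernel)]; exact ev_mem (by decide +kernel)
    · rw [conj_eq (v := [4]) (by decide +kernel)]; exact ev_mem (by decide +kernel)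
    · rw [conj_eq (v := [5]) (by decide +kernel)]; exact ev_mem (by decide +kernel)
    · rw [conj_eq (v := [6, 6, 6, 6]) (by decide +kernel)]; exact ev_mem (by decide +kernel)
  have := h hn
  rw [ev_singleton] at this
  exact this

theorem K_le_norm : sub gTh isK ≤ normalizer (KL : Set Th) := by
  rw [sub_isK_eq gTh_inv, closure_le]
  intro g hg
  simp only [Set.mem_insert_iff, Set.mem_singleton_iff] at hg
  rcases hg with rfl | rfl | rfl | rfl | rfl | rfl | rfl
  · exact le_normalizer (gen_mem rfl)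
  · exact le_normalizer (gen_mem rfl)
  · exact le_normalizer (gen_mem rfl)
  · exact le_normalizer (gen_mem rfl)
  · exact le_normalizer (gen_mem rfl)
  · exact le_normalizer (gen_mem rfl)
  · exact t_norm

theorem KL_le_K : KL ≤ sub gTh isK := KL_le fun x h1 h2 => ev_mem_sub fun y hy => by
  rw [List.mem_singleton] at hy
  rw [hy, isK_iff]
  omega

theorem cent_KL (hT : Thr) : centralizer (KL : Set Th) = ⊥ := by
  haveI := Cfsg.Agent.H755.CC.ThB.simple_L
  rw [eq_bot_iff]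
  intro x hx
  have h1 : x ∈ KL := C_le_KL hT (mem_centralizer_singleton_iff.2 (hx sT sK.2).symm)
  have h2 : (⟨x, h1⟩ : KL) ∈ center KL := mem_center_iff.2 fun y => Subtype.ext (hx y y.2)
  rcases (inferInstance : (center KL).Normal).eq_bot_or_eq_top with h | h
  · rw [h, mem_bot] at h2
    exact congrArg Subtype.val h2
  · exact absurd (fun a b => mem_center_iff.1 (h ▸ mem_top b) a) na_KL

/-- the normaliser of `KL` -/
theorem norm_KL (hC : CFSG.{0}) (hT : Thr) : normalizer (KL : Set Th) = sub gTh isK := by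
  haveI := finTh
  refine (eq_of_le_of_card_ge K_le_norm ?_).symm
  have h1 : Function.Injective (normalizerMonoidHom KL) := by
    rw [← MonoidHom.ker_eq_bot_iff, normalizerMonoidHom_ker, cent_KL hT, bot_subgroupOf]
  have h2 := (card_dvd_of_injective _ h1).trans (card_aut (real_KL hC))
  rw [Cfsg.Agent.H755.CC.ThB.card_L] at h2
  rw [card_K]
  exact Nat.le_of_dvd (by norm_num) h2

/-- a two-point stabiliser inside `KL` -/
theorem exists_base : ∃ t : Th, ∀ x ∈ sub gTh isK, t⁻¹ * x * t ∈ sub gTh isK → x ∈ KL := by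
  classical
  haveI := finTh
  obtain ⟨g, hN, -⟩ := Cfsg.Agent.Th.CoverMain.nodesTh
  have hex := (Cfsg.Agent.Th.OrbitSum.exact_of_cover (X := Th ⧸ sub gTh isK) (ι := Fin 11)
    (fun i => orb (sub gTh isK) gTh (g i)) (fun i => bN i) (fun x => by
      have hx : x ∈ (Set.univ : Set (Th ⧸ sub gTh isK)) := Set.mem_univ x
      rw [hN.univ gTh_inv gTh_top] at hx
      obtain ⟨i, hi, hx⟩ := Set.mem_iUnion₂.1 hx
      exact ⟨⟨i, Finset.mem_range.1 hi⟩, hx⟩) (fun i => by
      rw [Nat.card_coe_set_eq]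
      exact (hN.orbits gTh_inv gTh_relK i i.2).2) (by
      have : Nat.card (Th ⧸ sub gTh isK) = 143127000 := Cfsg.Agent.Th.Final.main.2.2.2
      rw [this]
      decide +kernel)).1 9
  have hex' : (orb (sub gTh isK) gTh (g 9)).ncard = 105670656 := by
    rw [← Nat.card_coe_set_eq]
    exact hex
  have hst : ∀ x : Th, x ∈ MulAction.stabilizer Th (pt (sub gTh isK) (g 9)) ↔
      g 9 * x * (g 9)⁻¹ ∈ sub gTh isK := by
    intro x
    rw [MulAction.mem_stabilizer_iff, smul_pt, pt_eq_iff, ← inv_mem_iff]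
    unfold CRel Cfsg.Agent.Lib.PathCheck.Rel
    rw [mul_inv_rev, mul_inv_rev, inv_inv, mul_assoc]
  have h1 := chain_step (sub gTh isK) (pt (sub gTh isK) (g 9)) (Set.toFinite (orb (sub gTh isK) gTh (g 9))).toFinset
    (fun x hx => by
      obtain ⟨k, hk, rfl⟩ := (Set.Finite.mem_toFinset _).1 hx
      exact ⟨k⁻¹, inv_mem hk, by rw [smul_pt, inv_inv]⟩)
  rw [← Set.ncard_eq_toFinset_card, hex', card_K] at h1
  have h2 := card_ge nd9 ok9 (KL ⊓ MulAction.stabilizer Th (pt (sub gTh isK) (g 9))) (fun w hw => by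
    refine ⟨?_, ?_⟩
    · replace hw : w ∈ [[4, 7, 7, 5, 4, 7, 5, 6, 6, 3, 4, 3, 5, 4, 3, 6, 5, 4, 3, 7, 7, 5, 7],
        [9, 6, 5, 4, 7, 5, 6, 3, 4, 3, 5, 4, 3, 6, 5, 4, 7, 5, 8, 2, 1, 3, 2, 4, 3, 5, 7]] := hw
      simp only [List.mem_cons, List.not_mem_nil, or_false] at hw
      rcases hw with rfl | rfl
      · exact ev_mem (by decide +kernel)
      · have e : ev gTh [9, 6, 5, 4, 7, 5, 6, 3, 4, 3, 5, 4, 3, 6, 5, 4, 7, 5, 8, 2, 1, 3, 2, 4, 3, 5, 7] =
            (gTh 8)⁻¹ * ev gTh [6, 5, 4, 7, 5, 6, 3, 4, 3, 5, 4, 3, 6, 5, 4, 7, 5] * (gTh 8)⁻¹⁻¹ *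
              ev gTh [2, 1, 3, 2, 4, 3, 5, 7] := by
          have i9 : gTh 9 = (gTh 8)⁻¹ := gTh_inv 8
          rw [inv_inv, ← i9, mul_assoc, mul_assoc, ← ev_cons, ← ev_append, ← ev_cons]
          rfl
        change ev gTh _ ∈ KL
        rw [e]
        exact mul_mem ((mem_normalizer_iff.1 (inv_mem t_norm) _).1 (ev_mem (by decide +kernel)))
          (ev_mem (by decide +kernel))
    · rw [← ok9.hz] at hw
      obtain ⟨z, hz, rfl⟩ := List.mem_map.1 hw
      exact (hst _).2 (hN.st 9 (by norm_num) (by norm_num) z hz))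
  have h3 : KL ⊓ MulAction.stabilizer Th (pt (sub gTh isK) (g 9)) =
      sub gTh isK ⊓ MulAction.stabilizer Th (pt (sub gTh isK) (g 9)) := by
    refine eq_of_le_of_card_ge (inf_le_inf_right _ KL_le_K) (le_trans ?_ h2)
    exact Nat.le_of_mul_le_mul_left (h1.trans (by decide +kernel)) (by norm_num : 0 < 105670656)
  refine ⟨(g 9)⁻¹, fun x hx hxt => ?_⟩
  rw [inv_inv] at hxt
  have h4 : x ∈ sub gTh isK ⊓ MulAction.stabilizer Th (pt (sub gTh isK) (g 9)) := ⟨hx, (hst x).2 hxt⟩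
  rw [← h3] at h4
  exact h4.1

/-- **The row `³D₄(2)`.** -/
theorem rowD4 : Row 211341312 := by
  intro hC hT A B L hA hL
  haveI := finTh
  haveI := hA.simple
  obtain ⟨e⟩ := H902.Iso.real_unique _ (real_KL hC) (real_td4 hC hA.nonab hL)
  obtain ⟨g, hg⟩ := exists_conj hT e
  obtain ⟨t, ht⟩ := exists_base
  have hAK : A.map (MulAut.conj g).toMonoidHom ≤ sub gTh isK := by
    rw [← norm_KL hC hT, ← hg]
    exact (map_mono hA.norm).trans (le_normalizer_map _)
  have hLB : KL ≤ B.map (MulAut.conj g).toMonoidHom := by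
    rw [← hg]
    exact map_mono hA.le
  obtain ⟨x, hx, hxt, hxB⟩ := (hA.pair.pair.conj g).exists_not_mem t
  exact hxB (hLB (ht x (hAK hx) (hAK hxt)))

end Cfsg.Agent.SP.NTh.D4

namespace Cfsg.Agent.SP.NTh

/-- **The row `³D₄(2)`.** -/
theorem rowD4 : Row 211341312 := D4.rowD4

end Cfsg.Agent.SP.NTh
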