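import Cfsg.Agent.SP.NTh.Iface
import Cfsg.Agent.SP.NTh.D4.Abs
import Cfsg.Agent.H755.CC.ThBase
import Cfsg.Agent.Th.KPerm

/-! # S5755, row `Th`: one class of subgroups `³D₄(2)` (helper26) -/

set_option autoImplicit false
set_option linter.style.haveILetI false
set_option maxRecDepth 100000

namespace Cfsg.Agent.SP.NTh.D4

open Subgroup Cfsg.Agent.SP
open Cfsg.Agent.Th.Word Cfsg.Agent.Th.KOracle Cfsg.Agent.Th.IndexUpper Cfsg.Agent.Th.IndexBound Cfsg.Agent.Th.PermTab

/-- the standard `³D₄(2)` -/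
abbrev KL : Subgroup Th := Cfsg.Agent.H755.CC.ThB.L

theorem finTh : Finite Th := Cfsg.Agent.Th.Final.finite_Th

theorem card_K : Nat.card (sub gTh isK) = 634023936 := Cfsg.Agent.Th.Final.main.2.2.1

theorem ev_one {w : List ℕ} (h : korc w = true) : ev gTh w = 1 :=
  korc_sound Cfsg.Agent.Th.KPerm.boundK gTh_inv gTh_relK h

theorem ev_eq {v w : List ℕ} (h : korc (v ++ iw w) = true) : ev gTh v = ev gTh w := by
  have := ev_one h
  rwa [ev_append, ev_iw gTh_inv, mul_inv_eq_one] at this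

theorem korc_of_one {w : List ℕ} (hw : allL isK w = true) (h : ev gTh w = 1) : korc w = true := by
  obtain ⟨φ, -, hφ⟩ := Cfsg.Agent.Th.KPerm.exists_hom gTh_inv gTh_relK card_K
  have hw' := (allL_iff _ _).1 hw
  have h1 := hφ w hw'
  have h2 : (⟨ev gTh w, ev_mem_sub hw'⟩ : sub gTh isK) = 1 := Subtype.ext h
  rw [h2, map_one] at h1
  have h5 : ∀ p : Fin 819, tr act w p = p := by
    intro p
    have := ev_rho_inv_apply isTab hw' p
    rw [← h1, inv_one, Equiv.Perm.one_apply] at this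
    exact this.symm
  exact (korc_iff w).2 ⟨hw', h5 0, h5 1, h5 39, h5 45⟩

theorem p1_inj : Function.Injective (Cfsg.Agent.Th.KPerm.p1 gTh) := by
  have hS : Nat.card (SK gTh) = 634023936 := SK_card Cfsg.Agent.Th.KPerm.boundK gTh_inv gTh_relK
  haveI : Finite (SK gTh) := (SK_bound Cfsg.Agent.Th.KPerm.boundK gTh_inv gTh_relK).1
  have h1 : Function.Bijective (Cfsg.Agent.Th.KPerm.p1 gTh).rangeRestrict :=
    (Nat.bijective_iff_surjective_and_card _).2 ⟨MonoidHom.rangeRestrict_surjective _, by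
      rw [Cfsg.Agent.Th.KPerm.p1_range gTh_inv, hS, card_K]⟩
  intro x y hxy
  exact h1.1 (Subtype.ext hxy)

/-- lower bounds for the orders of subgroups containing given words -/
theorem card_ge (d : ND) (hd : OK d) (H : Subgroup Th) (hH : ∀ w ∈ d.ws, ev gTh w ∈ H) :
    d.n1 * d.n2 ≤ Nat.card H := by
  haveI := finTh
  haveI : Finite (SK gTh) := (SK_bound Cfsg.Agent.Th.KPerm.boundK gTh_inv gTh_relK).1
  obtain ⟨S, hS⟩ : ∃ S : Subgroup (Th × Equiv.Perm (Fin 819)), S = SK gTh ⊓ H.comap (MonoidHom.fst _ _) := ⟨_, rfl⟩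
  have hSl : S ≤ SK gTh := by rw [hS]; exact inf_le_left
  have hSr : ∀ z ∈ S, z.1 ∈ H := by
    intro z hz
    rw [hS] at hz
    exact hz.2
  have hw := (allG_iff _ _).mp hd.hw
  have hwl : ∀ w ∈ d.ws, ∀ x ∈ w, isK x = true := fun w hw' => (allL_iff _ _).mp (hw w hw')
  haveI : Finite S := Finite.of_injective (Subgroup.inclusion hSl) (Subgroup.inclusion_injective _)
  have hmem : ∀ w ∈ d.ws, ev (pr gTh) w ∈ S := by
    intro w hw'
    rw [hS]
    refine ⟨ev_mem_sub (hwl w hw'), ?_⟩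
    change (ev (pr gTh) w).1 ∈ H
    rw [ev_pr]
    exact hH w hw'
  have c1 := chain_mask isTab (al Th) (al_ev gTh) S ⟨d.b1, hd.b1⟩ d.ws
    (fun w hw' => ⟨hwl w hw', hmem w hw'⟩) 819 d.n1 d.b1 rfl hd.h1
  haveI : Finite (S ⊓ stab (al Th) ⟨d.b1, hd.b1⟩ : Subgroup (Th × Equiv.Perm (Fin 819))) :=
    Finite.of_injective (Subgroup.inclusion inf_le_left) (Subgroup.inclusion_injective _)
  have hvl : ∀ v ∈ d.vs, ∀ x ∈ v, isK x = true := by
    intro v hv
    rw [← hd.hc] at hv
    obtain ⟨c, _, rfl⟩ := List.mem_map.mp hv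
    exact pw_letters _ hwl c
  have hvm : ∀ v ∈ d.vs, ev (pr gTh) v ∈ S ⊓ stab (al Th) ⟨d.b1, hd.b1⟩ := by
    intro v hv
    refine ⟨?_, mem_stab_of_tr gTh (hvl v hv) ⟨d.b1, hd.b1⟩ ?_⟩
    · have hv2 := hv
      rw [← hd.hc] at hv2
      obtain ⟨c, _, rfl⟩ := List.mem_map.mp hv2
      exact pw_mem (pr_invCompat gTh_inv) _ _ hmem c
    · exact Nat.beq_eq.mp ((allG_iff _ _).mp hd.hv v hv)
  have c2 := chain_mask isTab (al Th) (al_ev gTh) (S ⊓ stab (al Th) ⟨d.b1, hd.b1⟩) ⟨d.b2, hd.b2⟩ d.vs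
    (fun v hv => ⟨hvl v hv, hvm v hv⟩) 819 d.n2 d.b2 rfl hd.h2
  haveI : Finite (S ⊓ stab (al Th) ⟨d.b1, hd.b1⟩ ⊓ stab (al Th) ⟨d.b2, hd.b2⟩ :
      Subgroup (Th × Equiv.Perm (Fin 819))) :=
    Finite.of_injective (Subgroup.inclusion inf_le_left) (Subgroup.inclusion_injective _)
  have hpos : 0 < Nat.card (S ⊓ stab (al Th) ⟨d.b1, hd.b1⟩ ⊓ stab (al Th) ⟨d.b2, hd.b2⟩ :
      Subgroup (Th × Equiv.Perm (Fin 819))) := Nat.card_pos
  have c3 : Nat.card S ≤ Nat.card H := by
    refine Nat.card_le_card_of_injective (fun z : S => (⟨z.1.1, hSr z.1 z.2⟩ : H)) fun x y hxy => ?_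
    have h1 : (⟨x.1, hSl x.2⟩ : SK gTh) = ⟨y.1, hSl y.2⟩ := p1_inj (congrArg Subtype.val hxy)
    exact Subtype.ext (congrArg (fun z : SK gTh => z.1) h1)
  calc d.n1 * d.n2 ≤ d.n1 * (d.n2 * Nat.card (S ⊓ stab (al Th) ⟨d.b1, hd.b1⟩ ⊓ stab (al Th) ⟨d.b2, hd.b2⟩ :
          Subgroup (Th × Equiv.Perm (Fin 819)))) :=
        Nat.mul_le_mul_left _ (Nat.le_mul_of_pos_right _ hpos)
    _ ≤ d.n1 * Nat.card (S ⊓ stab (al Th) ⟨d.b1, hd.b1⟩ : Subgroup (Th × Equiv.Perm (Fin 819))) :=
        Nat.mul_le_mul_left _ c2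
    _ ≤ _ := c1.trans c3

/-- letters of `KL` -/
def isL (x : ℕ) : Bool := and (Nat.ble 1 x) (Nat.ble x 7)

theorem gen_mem {x : ℕ} (hx : isL x = true) : gTh x ∈ KL := by
  have h : ∀ y ∈ ({gTh 1, gTh 2, gTh 3, gTh 4, gTh 5, gTh 6} : Set Th), y ∈ KL := fun y hy => subset_closure hy
  have i7 : gTh 7 = (gTh 6)⁻¹ := gTh_inv 6
  unfold isL at hx
  rw [Bool.and_eq_true, Nat.ble_eq, Nat.ble_eq] at hx
  obtain ⟨h1, h2⟩ := hx
  interval_cases x
  · exact h _ (by simp)
  · exact h _ (by simp)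
  · exact h _ (by simp)
  · exact h _ (by simp)
  · exact h _ (by simp)
  · exact h _ (by simp)
  · rw [i7]; exact inv_mem (h _ (by simp))

theorem ev_mem {w : List ℕ} (hw : allL isL w = true) : ev gTh w ∈ KL := by
  induction w with
  | nil => exact one_mem _
  | cons x w ih =>
    rw [allL_cons, Bool.and_eq_true] at hw
    rw [ev_cons]
    exact mul_mem (gen_mem hw.1) (ih hw.2)

theorem KL_le {R : Subgroup Th} (h : ∀ x : ℕ, 1 ≤ x → x ≤ 6 → ev gTh [x] ∈ R) : KL ≤ R := by
  refine (closure_le _).2 ?_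
  intro g hg
  simp only [Set.mem_insert_iff, Set.mem_singleton_iff] at hg
  have h' : ∀ x : ℕ, 1 ≤ x → x ≤ 6 → gTh x ∈ R := fun x a b => by
    have := h x a b
    rwa [ev_singleton] at this
  rcases hg with rfl | rfl | rfl | rfl | rfl | rfl <;> exact h' _ (by norm_num) (by norm_num)

/-! ### the words -/

/-- `σ` -/
def wσ : List ℕ := [3, 2, 4, 3, 4]
/-- `w` -/
def ww : List ℕ := [2, 1]
/-- `n` -/
def wn : List ℕ := [3, 4, 5, 7, 3, 4, 3, 4, 5, 6, 4, 2, 3, 4, 5, 7, 3, 4, 5, 6, 2, 3, 4, 5, 1, 2, 3, 2]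
/-- `s ^ i * σ ^ j` -/
def wE (u : V2) : List ℕ := (List.replicate u.1.val [6]).flatten ++ (List.replicate u.2.val wσ).flatten

/-- `s` -/
noncomputable def sT : Th := ev gTh [6]
/-- `σ` -/
noncomputable def σT : Th := ev gTh wσ

theorem ev_rep (w : List ℕ) (n : ℕ) : ev gTh (List.replicate n w).flatten = ev gTh w ^ n := by
  induction n with
  | zero => rw [pow_zero]; rfl
  | succ n ih => rw [List.replicate_succ, List.flatten_cons, ev_append, ih, pow_succ']

theorem ev_wE (u : V2) : ev gTh (wE u) = E sT σT u := by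
  unfold wE E sT σT
  rw [ev_append, ev_rep, ev_rep]

theorem conj_eq {x y v : List ℕ} (h : korc ((x ++ y ++ iw x) ++ iw v) = true) :
    ev gTh x * ev gTh y * (ev gTh x)⁻¹ = ev gTh v := by
  have := ev_eq h
  rwa [ev_append, ev_append, ev_iw gTh_inv] at this

theorem mem_C {x : List ℕ} (h : korc ((x ++ [6] ++ iw x) ++ iw [6]) = true) :
    ev gTh x ∈ centralizer ({sT} : Set Th) := by
  rw [mem_centralizer_singleton_iff, ← mul_inv_eq_iff_eq_mul]
  exact conj_eq h

theorem sev : Sev sT σT where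
  s7 := by
    unfold sT
    rw [← ev_rep]
    exact ev_one (by decide +kernel)
  t7 := by
    unfold σT
    rw [← ev_rep]
    exact ev_one (by decide +kernel)
  com := (mem_centralizer_singleton_iff.1 (mem_C (x := wσ) (by decide +kernel))).symm

theorem chk_inj : ∀ u : V2, allL isK (wE u) = true ∧ (korc (wE u) = true → u = 0) := by decide +kernel

theorem E_inj : Function.Injective (E sT σT) := by
  have h : Function.Injective sev.hom := by
    rw [injective_iff_map_eq_one]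
    intro u hu
    have h1 : ev gTh (wE u.toAdd) = 1 := by rw [ev_wE]; exact hu
    exact (chk_inj u.toAdd).2 (korc_of_one (chk_inj u.toAdd).1 h1)
  intro u v huv
  exact h (a₁ := Multiplicative.ofAdd u) (a₂ := Multiplicative.ofAdd v) huv

theorem act_w : Act sT σT (ev gTh ww) mW :=
  sev.act ((conj_eq (y := [6]) (by decide +kernel)).trans (ev_wE _))
    ((conj_eq (y := wσ) (by decide +kernel)).trans (ev_wE _))

theorem act_n : Act sT σT (ev gTh wn) mN :=
  sev.act ((conj_eq (y := [6]) (by decide +kernel)).trans (ev_wE _))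
    ((conj_eq (y := wσ) (by decide +kernel)).trans (ev_wE _))

theorem order_s : orderOf sT = 7 := by
  refine @orderOf_eq_prime _ _ _ _ ⟨by norm_num⟩ sev.s7 fun h => ?_
  have h1 : E sT σT (1, 0) = E sT σT (0, 0) := by
    rw [E_one, h]
    simp [E]
  have h5 : (1 : ZMod 7) = 0 := congrArg Prod.fst (E_inj h1)
  exact absurd h5 (by decide)

/-- the centraliser of `s` -/
def dC : ND where
  zs := [0x1, 0x2, 0x3, 0x6, 0x434]
  ws := [[1], [2], [3], [6], [4, 3, 4]]
  b1 := 36
  n1 := 294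
  cs := [[2], [0, 2, 4, 8, 2, 0]]
  vs := [[2], [1, 2, 3, 4, 3, 4, 2, 1]]
  b2 := 0
  n2 := 4

theorem okC : OK dC where
  hz := by decide +kernel
  hw := by decide +kernel
  b1 := by decide
  h1 := by decide +kernel
  hc := by decide +kernel
  hv := by decide +kernel
  b2 := by decide
  h2 := by decide +kernel

theorem card_C : 1176 ≤ Nat.card (KL ⊓ centralizer ({sT} : Set Th) : Subgroup Th) := by
  refine card_ge dC okC _ fun w hw => ?_
  simp only [dC, List.mem_cons, List.not_mem_nil, or_false] at hw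
  rcases hw with rfl | rfl | rfl | rfl | rfl <;>
    exact ⟨ev_mem (by decide +kernel), mem_C (by decide +kernel)⟩

/-- the macro letters -/
def mac : List (List ℕ) := [[1], [2], [3], wn]
/-- a word conjugating `s` to `e s e` -/
def we : List ℕ := pw mac [6, 4, 2, 7, 2, 6, 0, 6, 2, 7, 4, 6]

/-- `KL` is generated by `C(s)` and `n` -/
theorem KL_le_of {R : Subgroup Th} (hC : centralizer ({sT} : Set Th) ≤ R) (hn : ev gTh wn ∈ R) : KL ≤ R := by
  refine KL_le fun x h1 h2 => ?_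
  interval_cases x
  · exact hC (mem_C (by decide +kernel))
  · exact hC (mem_C (by decide +kernel))
  · exact hC (mem_C (by decide +kernel))
  · have h := hC (mem_C (x := [4] ++ wn ++ wn) (by decide +kernel))
    rw [ev_append, ev_append] at h
    exact (R.mul_mem_cancel_right hn).1 ((R.mul_mem_cancel_right hn).1 h)
  · have h := hC (mem_C (x := iw we ++ [5]) (by decide +kernel))
    have h3 : ev gTh we ∈ R := by
      refine pw_mem gTh_inv mac R (fun w hw => ?_) _
      simp only [mac, List.mem_cons, List.not_mem_nil, or_false] at hw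
      rcases hw with rfl | rfl | rfl | rfl
      · exact hC (mem_C (by decide +kernel))
      · exact hC (mem_C (by decide +kernel))
      · exact hC (mem_C (by decide +kernel))
      · exact hn
    rw [ev_append, ev_iw gTh_inv] at h
    exact (R.mul_mem_cancel_left (inv_mem h3)).1 h
  · exact hC (mem_C (by decide +kernel))

/-! ### the conjugacy -/

/-- `s` in `KL` -/
noncomputable def sK : KL := ⟨sT, ev_mem (by decide +kernel)⟩
/-- `σ` in `KL` -/
noncomputable def σK : KL := ⟨σT, ev_mem (by decide +kernel)⟩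
/-- `w` in `KL` -/
noncomputable def wK : KL := ⟨ev gTh ww, ev_mem (by decide +kernel)⟩
/-- `n` in `KL` -/
noncomputable def nK : KL := ⟨ev gTh wn, ev_mem (by decide +kernel)⟩

theorem coe_E (u : V2) : ((E sK σK u : KL) : Th) = E sT σT u := rfl

theorem sevK : Sev sK σK where
  s7 := Subtype.ext sev.s7
  t7 := Subtype.ext sev.t7
  com := Subtype.ext sev.com

theorem act_wK : Act sK σK wK mW := fun u => Subtype.ext (act_w u)
theorem act_nK : Act sK σK nK mN := fun u => Subtype.ext (act_n u)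

theorem C_le (hT : Thr) (f : KL →* Th) (hf : Function.Injective f) (hs : f sK = sT) :
    centralizer ({sT} : Set Th) ≤ f.range := by
  haveI := finTh
  have h1 : ((KL ⊓ centralizer ({sT} : Set Th)).subgroupOf KL).map f ≤ centralizer ({sT} : Set Th) := by
    rintro _ ⟨x, hx, rfl⟩
    have h2 : x * sK = sK * x := Subtype.ext (mem_centralizer_singleton_iff.1 hx.2)
    rw [mem_centralizer_singleton_iff, ← hs, ← map_mul, h2, map_mul]
  have h2 : Nat.card (centralizer ({sT} : Set Th)) ≤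
      Nat.card (((KL ⊓ centralizer ({sT} : Set Th)).subgroupOf KL).map f) := by
    rw [card_map_of_injective hf, Nat.card_congr (subgroupOfEquivOfLe inf_le_left).toEquiv]
    exact (Nat.le_of_dvd (by norm_num) (hT.c7 sT order_s)).trans card_C
  rw [← eq_of_le_of_card_ge h1 h2]
  exact map_le_range _ _

theorem C_le_KL (hT : Thr) : centralizer ({sT} : Set Th) ≤ KL := by
  have := C_le hT KL.subtype (subtype_injective _) rfl
  rwa [range_subtype] at this

theorem le_range (hT : Thr) (f : KL →* Th) (hf : Function.Injective f) (hs : f sK = sT)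
    (hσ : f σK ∈ sev.hom.range) : KL ≤ f.range := by
  haveI := finTh
  obtain ⟨u, hu⟩ := hσ
  obtain ⟨⟨j, k⟩, hjk⟩ : ∃ v : V2, f σK = E sT σT v := ⟨u.toAdd, hu.symm⟩
  have hC := C_le hT f hf hs
  have hk : k ≠ 0 := by
    rintro rfl
    have h1 := sev.map f (p := (1, 0)) (q := (j, 0)) (by rw [hs, E_one]) hjk (j, 0)
    have h2 : lin (1, 0) (j, 0) (j, 0) = (j, 0) := by simp [lin]
    rw [h2, ← hjk] at h1
    have h3 := congrArg Subtype.val (hf h1)
    rw [coe_E] at h3
    have h4 : E sT σT (j, 0) = E sT σT (0, 1) := by rw [h3, E_two]; rfl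
    have h5 : (0 : ZMod 7) = 1 := congrArg Prod.snd (E_inj h4)
    exact absurd h5 (by decide)
  obtain ⟨b, hb⟩ := exists_comm sev E_inj (by rw [Cfsg.Agent.Th.Final.card_Th]; norm_num) act_w act_n act_wK act_nK
    f hk hs hjk
  refine KL_le_of hC ?_
  have h1 : f nK * ev gTh ww ^ b * (ev gTh wn)⁻¹ ∈ f.range := hC (mem_centralizer_singleton_iff.2 hb.symm.eq)
  have h2 : f nK * ev gTh ww ^ b ∈ f.range :=
    mul_mem ⟨nK, rfl⟩ (pow_mem (hC (mem_C (x := ww) (by decide +kernel))) _)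
  exact inv_mem_iff.1 ((f.range.mul_mem_cancel_left h2).1 h1)

/-- **Every subgroup isomorphic to `KL` is conjugate to `KL`.** -/
theorem exists_conj (hT : Thr) {L : Subgroup Th} (e : KL ≃* L) :
    ∃ g : Th, L.map (MulAut.conj g).toMonoidHom = KL := by
  haveI := finTh
  let f0 : KL →* Th := L.subtype.comp e.toMonoidHom
  have hf0 : Function.Injective f0 := (subtype_injective _).comp e.injective
  have ho : orderOf (f0 sK) = 7 := by
    rw [orderOf_injective f0 hf0, ← order_s]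
    exact (Subgroup.orderOf_coe sK).symm
  obtain ⟨g1, hg1⟩ := Cfsg.Agent.H495.SprThRep.rep7 ho
  obtain ⟨g2, hg2⟩ := Cfsg.Agent.H495.SprThRep.rep7 order_s
  let f1 : KL →* Th := (MulAut.conj (g2⁻¹ * g1)).toMonoidHom.comp f0
  have hf1 : Function.Injective f1 := (MulAut.conj _).injective.comp hf0
  have hs1 : f1 sK = sT := by
    change (g2⁻¹ * g1) * f0 sK * (g2⁻¹ * g1)⁻¹ = sT
    calc (g2⁻¹ * g1) * f0 sK * (g2⁻¹ * g1)⁻¹ = g2⁻¹ * (g1 * f0 sK * g1⁻¹) * g2 := by group
      _ = g2⁻¹ * (g2 * sT * g2⁻¹) * g2 := by rw [hg1, hg2]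
      _ = sT := by group
  have hV : Nat.card sev.hom.range = 7 ^ 2 := by
    rw [← Nat.card_congr (MonoidHom.ofInjective (f := sev.hom) fun a b hab => E_inj hab).toEquiv]
    simp [V2]
  have hV' : Nat.card (sevK.hom.range.map f1) = 7 ^ 2 := by
    rw [card_map_of_injective hf1, ← Nat.card_congr (MonoidHom.ofInjective (f := sevK.hom)
      fun a b hab => E_inj (congrArg Subtype.val hab)).toEquiv]
    simp [V2]
  have hVC : sev.hom.range ≤ centralizer ({sT} : Set Th) := by
    rintro _ ⟨u, rfl⟩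
    exact mem_centralizer_singleton_iff.2
      (((Commute.refl sT).pow_right _).mul_right (sev.com.pow_right _)).symm.eq
  have hVC' : sevK.hom.range.map f1 ≤ centralizer ({sT} : Set Th) := by
    rintro _ ⟨_, ⟨u, rfl⟩, rfl⟩
    have h1 : Commute sK (sevK.hom u) := ((Commute.refl sK).pow_right _).mul_right (sevK.com.pow_right _)
    rw [mem_centralizer_singleton_iff, ← hs1]
    exact (h1.map f1).symm.eq
  obtain ⟨c, hc, hcV⟩ := sylow_conj (by norm_num) hVC hVC' hV hV' fun h => by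
    have := h.trans (hT.c7 sT order_s)
    norm_num at this
  let f2 : KL →* Th := (MulAut.conj c).toMonoidHom.comp f1
  have hf2 : Function.Injective f2 := (MulAut.conj _).injective.comp hf1
  have hs2 : f2 sK = sT := by
    change c * f1 sK * c⁻¹ = sT
    rw [hs1, mem_centralizer_singleton_iff.1 hc, mul_inv_cancel_right]
  have hσ2 : f2 σK ∈ sev.hom.range :=
    hcV _ ⟨σK, ⟨Multiplicative.ofAdd (0, 1), E_two _ _⟩, rfl⟩
  have h1 := le_range hT f2 hf2 hs2 hσ2
  refine ⟨c * (g2⁻¹ * g1), (eq_of_le_of_card_ge (h1.trans ?_) ?_).symm⟩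
  · rintro _ ⟨x, rfl⟩
    refine ⟨e x, (e x).2, ?_⟩
    change (c * (g2⁻¹ * g1)) * f0 x * (c * (g2⁻¹ * g1))⁻¹ = c * ((g2⁻¹ * g1) * f0 x * (g2⁻¹ * g1)⁻¹) * c⁻¹
    group
  · rw [NegS.card_map_conj, Nat.card_congr e.toEquiv]

end Cfsg.Agent.SP.NTh.D4
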